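import Groth.Agent.PicLib.Invertible
import Groth.Prelude.Def_ParaF

/-! # Restriction of invertible modules along open immersions satisfying Hartogs -/

set_option autoImplicit false
set_option backward.isDefEq.respectTransparency.types false

universe u

open CategoryTheory CategoryTheory.Limits AlgebraicGeometry Opposite TopologicalSpace
open Groth.Agent.PicLib Groth.Agent.Coherent

namespace Groth.Agent.ParaF29

variable {X : Scheme.{u}}

/-- functions extend uniquely from `U` -/
def HB (U : X.Opens) : Prop :=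
  ∀ V : X.Opens, Function.Bijective (X.presheaf.map (homOfLE (inf_le_left : V ⊓ U ≤ V)).op)

theorem HB.bij {U : X.Opens} (h : HB U) {V W : X.Opens} (e : W = V ⊓ U) (hle : W ≤ V) :
    Function.Bijective (res hle) := by
  subst e; exact h V

/-- sections of invertible modules extend uniquely -/
theorem bijective_resM {U : X.Opens} (h : HB U) {L : X.Modules} (hL : PicF.IsInvertible L) (V : X.Opens) :
    Function.Bijective (resM L (inf_le_left : V ⊓ U ≤ V)) := by
  obtain ⟨N, s, hN, hs⟩ := exists_cover hL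
  have hcV : V ≤ ⨆ y, V ⊓ N y := fun z hz => Opens.mem_iSup.mpr ⟨z, hz, hN z⟩
  have hinj : ∀ (W : X.Opens) (y : X) (_ : W ≤ N y) (a b : Γ(L, W)),
      resM L (inf_le_left : W ⊓ U ≤ W) a = resM L inf_le_left b → a = b := fun W y hW a b hab => by
    rw [← (hs y).coef_spec hW a, ← (hs y).coef_spec hW b]
    congr 1
    refine (h W).1 ?_
    show res (inf_le_left : W ⊓ U ≤ W) _ = res (inf_le_left : W ⊓ U ≤ W) _
    rw [← (hs y).coef_res hW inf_le_left, ← (hs y).coef_res hW inf_le_left, hab]
  have hinj' : ∀ (a b : Γ(L, V)), resM L (inf_le_left : V ⊓ U ≤ V) a = resM L inf_le_left b → a = b := fun a b hab => by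
    refine TopCat.Sheaf.eq_of_locally_eq' (⟨L.presheaf, L.isSheaf⟩ : TopCat.Sheaf Ab X)
      (fun y => V ⊓ N y) V (fun y => homOfLE inf_le_left) hcV a b fun y => ?_
    refine hinj (V ⊓ N y) y inf_le_right _ _ ?_
    show resM L inf_le_left (resM L (inf_le_left : V ⊓ N y ≤ V) a) = resM L inf_le_left (resM L inf_le_left b)
    rw [resM_resM, resM_resM, ← resM_resM L inf_le_left (inf_le_inf_right U inf_le_left) a, hab, resM_resM]
  refine ⟨fun a b hab => hinj' a b hab, fun x => ?_⟩
  have hloc : ∀ y, ∃ t : Γ(L, V ⊓ N y), resM L (inf_le_left : (V ⊓ N y) ⊓ U ≤ V ⊓ N y) t =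
      resM L (inf_le_inf_right U inf_le_left) x := fun y => by
    obtain ⟨C, hC⟩ := (h (V ⊓ N y)).2 ((hs y).coef (inf_le_left.trans inf_le_right)
      (resM L (inf_le_inf_right U inf_le_left) x))
    refine ⟨C • resM L inf_le_right (s y), ?_⟩
    rw [resM_smul, resM_resM, show X.presheaf.map (homOfLE (inf_le_left : (V ⊓ N y) ⊓ U ≤ V ⊓ N y)).op C = _ from hC]
    exact (hs y).coef_spec _ _
  choose t ht using hloc
  obtain ⟨a, ha, -⟩ := TopCat.Sheaf.existsUnique_gluing' (⟨L.presheaf, L.isSheaf⟩ : TopCat.Sheaf Ab X)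
    (fun y => V ⊓ N y) V (fun y => homOfLE inf_le_left) hcV t (fun i j => by
      show resM L inf_le_left (t i) = resM L inf_le_right (t j)
      refine hinj _ i (inf_le_left.trans inf_le_right) _ _ ?_
      rw [resM_resM, resM_resM, ← resM_resM L inf_le_left
          (inf_le_inf_right U (inf_le_left : (V ⊓ N i) ⊓ (V ⊓ N j) ≤ V ⊓ N i)) (t i),
        ← resM_resM L inf_le_left (inf_le_inf_right U (inf_le_right : (V ⊓ N i) ⊓ (V ⊓ N j) ≤ V ⊓ N j)) (t j),
        ht, ht, resM_resM, resM_resM])
  refine ⟨a, ?_⟩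
  refine TopCat.Sheaf.eq_of_locally_eq' (⟨L.presheaf, L.isSheaf⟩ : TopCat.Sheaf Ab X)
    (fun y => (V ⊓ N y) ⊓ U) (V ⊓ U) (fun y => homOfLE (inf_le_inf_right U inf_le_left))
    (fun z hz => Opens.mem_iSup.mpr ⟨z, ⟨hz.1, hN z⟩, hz.2⟩) _ _ fun y => ?_
  show resM L _ (resM L (inf_le_left : V ⊓ U ≤ V) a) = resM L _ x
  rw [resM_resM, ← ht y, ← show resM L (inf_le_left : V ⊓ N y ≤ V) a = t y from ha y, resM_resM]

section immersion

variable {Y : Scheme.{u}} (j : Y ⟶ X) [IsOpenImmersion j]

theorem isInvertible_restrict {L : X.Modules} (hL : PicF.IsInvertible L) : PicF.IsInvertible (L.restrict j) := by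
  refine isInvertible_of_gens fun y => ?_
  obtain ⟨N, hy, s, hs⟩ := exists_isGen hL (j y)
  refine ⟨j ⁻¹ᵁ N, hy, (L.restrictAppIso j _).inv (resM L (j.image_preimage_le N) s), fun W hW => ?_⟩
  have hb := hs (j ''ᵁ W) ((j.image_mono hW).trans (j.image_preimage_le N))
  have hb3 := ConcreteCategory.bijective_of_isIso (j.appIso W).inv
  have hb2 := ConcreteCategory.bijective_of_isIso (L.restrictAppIso j W).hom
  refine (Function.Bijective.of_comp_iff' hb2 _).1 ?_
  convert hb.comp hb3 using 1
  funext r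
  refine (Scheme.Modules.smul_restrictAppIso_hom_apply j L W r _).trans ?_
  show _ • _ = _ • _
  rw [← resM_resM L (j.image_preimage_le N) (j.image_mono hW) s]
  rfl

theorem isIso_unit (h : HB j.opensRange) {L : X.Modules} (hL : PicF.IsInvertible L) :
    IsIso ((Scheme.Modules.restrictAdjunction j).unit.app L) := by
  rw [Scheme.Modules.Hom.isIso_iff_isIso_app]
  intro V
  rw [ConcreteCategory.isIso_iff_bijective]
  have key : ∀ {W : X.Opens} (_ : W = V ⊓ j.opensRange) (hle : W ≤ V), Function.Bijective (resM L hle) := by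
    intro W e hle; subst e; exact bijective_resM h hL V
  exact key ((j.image_preimage_eq_opensRange_inf V).trans (inf_comm _ _)) (j.image_preimage_le V)

theorem map_bijective (h : HB j.opensRange) (L : X.Modules) {L' : X.Modules} (hL' : PicF.IsInvertible L') :
    Function.Bijective (fun φ : L ⟶ L' => (Scheme.Modules.restrictFunctor j).map φ) := by
  haveI := isIso_unit j h hL'
  let adj := Scheme.Modules.restrictAdjunction j
  have e : (fun φ : L ⟶ L' => (Scheme.Modules.restrictFunctor j).map φ) =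
      (adj.homEquiv L _).symm ∘ fun φ : L ⟶ L' => φ ≫ adj.unit.app L' := funext fun φ => by
    apply (adj.homEquiv L _).injective
    show _ = (adj.homEquiv L _) ((adj.homEquiv L _).symm _)
    rw [Equiv.apply_symm_apply, Adjunction.homEquiv_unit]
    exact (adj.unit_naturality φ)
  rw [e]
  exact (adj.homEquiv L _).symm.bijective.comp
    ⟨fun a b hab => (cancel_mono _).mp hab, fun b => ⟨b ≫ inv (adj.unit.app L'), by simp [adj]⟩⟩

/-- the module on `X` with restriction `L₀` is the direct image -/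
theorem nonempty_iso_pushforward (h : HB j.opensRange) {L : X.Modules} (hL : PicF.IsInvertible L) {L₀ : Y.Modules}
    (e : L.restrict j ≅ L₀) : Nonempty (L ≅ (Scheme.Modules.pushforward j).obj L₀) :=
  haveI := isIso_unit j h hL
  ⟨asIso ((Scheme.Modules.restrictAdjunction j).unit.app L) ≪≫ (Scheme.Modules.pushforward j).mapIso e⟩

theorem isInvertible_of_iso {L M : X.Modules} (e : L ≅ M) (hL : PicF.IsInvertible L) : PicF.IsInvertible M := fun y =>
  (hL y).imp fun U hU => ⟨hU.1, hU.2.map fun e' => (Scheme.Modules.restrictFunctor U.ι).mapIso e.symm ≪≫ e'⟩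

theorem invRestrictEquiv_of (h : HB j.opensRange)
    (hpush : ∀ L₀ : Y.Modules, PicF.IsInvertible L₀ → PicF.IsInvertible ((Scheme.Modules.pushforward j).obj L₀)) :
    ParaF.InvRestrictEquiv j :=
  ⟨fun L L' _ hL' => map_bijective j h L hL', fun L₀ hL₀ =>
    ⟨_, hpush L₀ hL₀, ⟨(asIso (Scheme.Modules.restrictAdjunction j).counit).app L₀⟩⟩⟩

theorem pushforward_invertible (h : HB j.opensRange) (hj : ParaF.InvRestrictEquiv j) {L₀ : Y.Modules}
    (hL₀ : PicF.IsInvertible L₀) : PicF.IsInvertible ((Scheme.Modules.pushforward j).obj L₀) := by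
  obtain ⟨L, hL, ⟨e⟩⟩ := hj.2 L₀ hL₀
  exact isInvertible_of_iso (nonempty_iso_pushforward j h hL e).some hL

end immersion

end Groth.Agent.ParaF29
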