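import Groth.Agent.ParaF29.Ops
import Groth.Prelude.Def_FEt
import Groth.Agent.FEtFF.Punctured
import Groth.Agent.CAlgH3.Serre

/-! # Parafactorial local rings -/

set_option autoImplicit false
set_option backward.isDefEq.respectTransparency.types false

universe u

open CategoryTheory CategoryTheory.Limits AlgebraicGeometry Opposite TopologicalSpace
open Groth.Agent.PicLib Groth.Agent.Coherent

namespace Groth.Agent.ParaF29

variable (A : Type u) [CommRing A] [IsLocalRing A]

theorem eq_top_of_closedPoint_mem {V : (Spec (CommRingCat.of A)).Opens} (h : IsLocalRing.closedPoint A ∈ V) : V = ⊤ :=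
  eq_top_iff.mpr fun z _ => (IsLocalRing.specializes_closedPoint z).mem_open V.isOpen h

theorem le_punctured {V : (Spec (CommRingCat.of A)).Opens} (h : IsLocalRing.closedPoint A ∉ V) :
    V ≤ FEt.puncturedSpec A :=
  fun _ hz e => h (Set.mem_singleton_iff.mp e ▸ hz)

theorem hb_punctured_iff : HB (FEt.puncturedSpec A) ↔
    Function.Bijective (res (le_top : FEt.puncturedSpec A ≤ ⊤)) := by
  constructor
  · exact fun h => h.bij (top_inf_eq _).symm _
  · intro h V
    have key : ∀ {A' B A'' B' : (Spec (CommRingCat.of A)).Opens} (_ : A' = A'') (_ : B = B') (h1 : A' ≤ B) (h2 : A'' ≤ B'),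
        Function.Bijective (res h1) → Function.Bijective (res h2) := by
      intro A' B A'' B' e e' h1 h2 hh; subst e; subst e'; exact hh
    by_cases hV : IsLocalRing.closedPoint A ∈ V
    · obtain rfl := eq_top_of_closedPoint_mem A hV
      exact key (top_inf_eq _).symm rfl le_top _ h
    · refine key (inf_eq_left.mpr (le_punctured A hV)).symm rfl le_rfl _ ?_
      have e : ⇑(res (le_rfl : V ≤ V)) = id := funext fun x =>
        ConcreteCategory.congr_hom ((Spec (CommRingCat.of A)).presheaf.map_id (op V)) x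
      rw [e]; exact Function.bijective_id

theorem picTrivial_of_lt (h : LT (FEt.puncturedSpec A)) : ParaF.PicTrivial (FEt.puncturedSpec A : Scheme.{u}) := by
  intro L hL
  obtain ⟨N, hz, s, hs⟩ := locTriv_of_LT h (𝟙 _) (FEt.puncturedSpec A).ι (by
    rw [Scheme.Opens.opensRange_ι, Scheme.Hom.id_preimage]) L hL (IsLocalRing.closedPoint A)
  obtain rfl := eq_top_of_closedPoint_mem A hz
  haveI : IsIso (unitDesc L (show Γ(L, ⊤) from s)) := isIso_of_isGen _ (by rw [unitVal_unitDesc, resM_self]; exact hs)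
  exact ⟨(asIso (unitDesc L (show Γ(L, ⊤) from s))).symm⟩

theorem lt_of_picTrivial (h : ParaF.PicTrivial (FEt.puncturedSpec A : Scheme.{u})) : LT (FEt.puncturedSpec A) := by
  intro V
  refine locTriv_of_ranges V.ι _ opensRange_homOfLE_inf fun z => ?_
  by_cases hz : IsLocalRing.closedPoint A ∈ V
  · refine ⟨_, _, 𝟙 _, inferInstance, (FEt.puncturedSpec A).ι, inferInstance,
      by rw [Scheme.Opens.opensRange_ι, Scheme.Hom.id_preimage], ⟨V.ι z, rfl⟩,
      by rw [Scheme.Opens.opensRange_ι, eq_top_of_closedPoint_mem A hz]; exact le_top, fun L₀ hL₀ w => ?_⟩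
    obtain ⟨e⟩ := h L₀ hL₀
    refine ⟨⊤, trivial, unitVal e.inv ⊤, fun Q hQ => ?_⟩
    have hb := ConcreteCategory.bijective_of_isIso (e.inv.app Q)
    have hfun : (fun r : Γ((FEt.puncturedSpec A : Scheme.{u}), Q) => r • resM L₀ hQ (unitVal e.inv ⊤)) = fun r => e.inv.app Q r := funext fun r => by
      rw [app_unit, ← resM_unitVal e.inv hQ]; rfl
    exact hfun ▸ hb
  · refine ⟨_, _, V.ι, inferInstance, 𝟙 _, inferInstance, ?_, ⟨z, rfl⟩, le_rfl, fun L₀ hL₀ w => exists_isGen hL₀ w⟩
    ext w
    exact ⟨fun _ => le_punctured A hz w.2, fun _ => ⟨w, rfl⟩⟩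

theorem compl_eq : (⟨{IsLocalRing.closedPoint A}, IsLocalRing.isClosed_singleton_closedPoint A⟩ :
    Closeds (Spec (CommRingCat.of A))).compl = FEt.puncturedSpec A := rfl

theorem isParafactorialLocalRing_iff : ParaF.IsParafactorialLocalRing A ↔
    (Function.Bijective (res (le_top : FEt.puncturedSpec A ≤ ⊤)) ∧
      ParaF.PicTrivial (FEt.puncturedSpec A : Scheme.{u})) := by
  rw [ParaF.IsParafactorialLocalRing, isParafactorialPair_iff, compl_eq, hb_punctured_iff]
  exact and_congr_right' ⟨picTrivial_of_lt A, lt_of_picTrivial A⟩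

theorem bijective_res_of_depth [IsNoetherianRing A] (h : (2 : ℕ∞) ≤ LocCoh.depth A A) :
    Function.Bijective (res (le_top : FEt.puncturedSpec A ≤ ⊤)) :=
  Groth.Agent.FEtFF.Hartogs.bijective_restrict _ (Groth.Agent.FEtFF.Hartogs.two_le_depth_stalk h) (isAffineOpen_top _)
    (top_inf_eq _).symm le_top

end Groth.Agent.ParaF29
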