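import Groth.Agent.ParaF29.Local
import Groth.Agent.PicLib.CocycleGlue
import Groth.Agent.UfdExt24.Germ
import Groth.Agent.CAlgH3.Factorial
import Mathlib.RingTheory.UniqueFactorizationDomain.Kaplansky

/-! # Factoriality from triviality of invertible modules -/

set_option autoImplicit false
set_option backward.isDefEq.respectTransparency.types false

universe u

open CategoryTheory CategoryTheory.Limits AlgebraicGeometry Opposite TopologicalSpace
open Groth.Agent.PicLib Groth.Agent.Coherent Groth.Agent.UfdExt24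

namespace Groth.Agent.ParaF29

/-- `π` generates `P` at `q` -/
def GenP {R : Type*} [CommRing R] (P : Ideal R) (q : PrimeSpectrum R) (π : R) : Prop :=
  π ∈ P ∧ π ≠ 0 ∧ ∀ x ∈ P, ∃ s, s ∉ q.asIdeal ∧ π ∣ s * x

theorem unitAt_of_genP {R : Type u} [CommRing R] [IsDomain R] {P : Ideal R} {q : PrimeSpectrum R} {π π' : R}
    (h : GenP P q π) (h' : GenP P q π') :
    UnitAt q ((algebraMap R (FractionRing R) π) / algebraMap R (FractionRing R) π') := by
  obtain ⟨s, hs, b, hb⟩ := h.2.2 π' h'.1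
  obtain ⟨t, ht, a, ha⟩ := h'.2.2 π h.1
  have hπ' : algebraMap R (FractionRing R) π' ≠ 0 := (map_ne_zero_iff _ (IsFractionRing.injective _ _)).2 h'.2.1
  have hab : a * b = s * t := by
    apply mul_left_cancel₀ h'.2.1
    calc π' * (a * b) = (π' * a) * b := by ring
      _ = t * (π * b) := by rw [← ha]; ring
      _ = t * (s * π') := by rw [hb]
      _ = π' * (s * t) := by ring
  refine ⟨a, t, fun hq => ?_, ht, ?_⟩
  · rcases q.isPrime.mem_or_mem (hab ▸ q.asIdeal.mul_mem_right b hq : s * t ∈ q.asIdeal) with h1 | h1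
    · exact hs h1
    · exact ht h1
  · rw [div_mul_eq_mul_div, eq_comm, eq_div_iff hπ', ← map_mul, ← map_mul, mul_comm a, ← ha, mul_comm]

variable {X : Scheme.{u}}

theorem exists_section_glue {W : X.Opens} (hW : IsAffineOpen W) [IsDomain Γ(X, W)] {V : X.Opens} (hV : V ≤ W)
    {ι : Type u} (N : ι → X.Opens) (hN : V ≤ iSup N) (hNV : ∀ i, N i ≤ V) (s : ∀ i, Γ(X, N i))
    {w : FractionRing Γ(X, W)} (hs : ∀ i hη, val hW (N i) hη (s i) = w) :
    ∃ t : Γ(X, V), ∀ hη : gen hW ∈ V, val hW V hη t = w := by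
  obtain ⟨t, ht, -⟩ := TopCat.Sheaf.existsUnique_gluing' X.sheaf N V (fun i => homOfLE (hNV i)) hN s
    (fun i j => ext_of_val hW ((inf_le_left.trans (hNV i)).trans hV) fun hη =>
      (val_rs hW inf_le_left hη _).trans ((hs i _).trans ((val_rs hW inf_le_right hη _).trans (hs j _)).symm))
  refine ⟨t, fun hη => ?_⟩
  obtain ⟨i, hi⟩ := Opens.mem_iSup.1 (hN hη)
  rw [← hs i hi, ← val_rs hW (hNV i) hi t]
  exact congrArg (val hW _ hi) (ht i)

theorem bijective_ι_app_of_le {U N : X.Opens} (h : N ≤ U) : Function.Bijective (U.ι.app N).hom := by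
  have key : ∀ {A : X.Opens} (_ : A = N) (hle : A ≤ N), Function.Bijective (res hle) := by
    intro A e hle; subst e
    have e' : ⇑(res hle) = id := funext fun x => ConcreteCategory.congr_hom (X.presheaf.map_id (op A)) x
    rw [e']; exact Function.bijective_id
  refine key (A := U.ι ''ᵁ (U.ι ⁻¹ᵁ N)) ?_ _
  rw [U.ι.image_preimage_eq_opensRange_inf, Scheme.Opens.opensRange_ι, inf_eq_right]; exact h

theorem notMem_pt {W : X.Opens} (hW : IsAffineOpen W) {y : X} (hy : y ∈ W) (r : Γ(X, W)) :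
    r ∉ (pt hW hy).asIdeal ↔ y ∈ X.basicOpen r := by
  conv_rhs => rw [← fromSpec_pt hW hy]
  exact Iff.of_eq (congrArg (pt hW hy ∈ ·) (hW.fromSpec_preimage_basicOpen r)).symm

/-- a prime which is locally principal on `U` is principal -/
theorem isPrincipal_of_picTrivial (hW : IsAffineOpen (⊤ : X.Opens)) [IsDomain Γ(X, ⊤)] [IsNoetherianRing Γ(X, ⊤)]
    (U : X.Opens) (hU : HB U) (hpic : ParaF.PicTrivial (U : Scheme.{u})) (P : Ideal Γ(X, ⊤)) [P.IsPrime]
    (hPU : ∃ y ∈ U, (pt hW (show y ∈ (⊤ : X.Opens) from trivial)).asIdeal = P)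
    (hloc : ∀ y ∈ U, ∃ π, GenP P (pt hW (show y ∈ (⊤ : X.Opens) from trivial)) π) :
    Submodule.IsPrincipal P := by
  classical
  let K := FractionRing Γ(X, ⊤)
  let φ := algebraMap Γ(X, ⊤) K
  -- neighbourhoods
  have hnhd : ∀ y : U, ∃ (π : Γ(X, ⊤)) (N : X.Opens), y.1 ∈ N ∧ N ≤ U ∧
      ∀ y' ∈ N, GenP P (pt hW (show y' ∈ (⊤ : X.Opens) from trivial)) π := fun y => by
    obtain ⟨π, hπP, hπ0, hπ⟩ := hloc y.1 y.2
    obtain ⟨S, hS⟩ := IsNoetherian.noetherian P
    choose s hs hdvd using fun x : S => hπ x.1 (hS ▸ Submodule.subset_span x.2)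
    refine ⟨π, U ⊓ X.basicOpen (∏ x, s x), ⟨y.2, (notMem_pt hW (y := y.1) trivial (∏ x, s x)).1 ?_⟩, inf_le_left, fun y' hy' => ?_⟩
    · exact fun h => by
        obtain ⟨x, -, hx⟩ := (pt hW _).isPrime.prod_mem_iff.1 h
        exact hs x hx
    · refine ⟨hπP, hπ0, fun x hx => ⟨∏ z, s z, (notMem_pt hW _ _).2 hy'.2, ?_⟩⟩
      rw [← hS] at hx
      induction hx using Submodule.span_induction with
      | mem z hz => exact (hdvd ⟨z, hz⟩).trans (mul_dvd_mul_right (Finset.dvd_prod_of_mem _ (Finset.mem_univ _)) _)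
      | zero => simp
      | add a b _ _ ha hb => rw [mul_add]; exact dvd_add ha hb
      | smul r a _ ha => rw [smul_eq_mul, mul_left_comm]; exact dvd_mul_of_dvd_right ha r
  choose π N hyN hNU hgenP using hnhd
  -- transition units
  have htr : ∀ i j : U, ∃ r : Γ(X, N i ⊓ N j), IsUnit r ∧
      ∀ hη : gen hW ∈ N i ⊓ N j, val hW _ hη r = φ (π i) / φ (π j) := fun i j =>
    exists_unit_glue hW le_top fun y hy => unitAt_of_genP (hgenP i y hy.1) (hgenP j y hy.2)
  choose r hr hrval using htr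
  let Vs : U → (U : Scheme.{u}).Opens := fun i => U.ι ⁻¹ᵁ N i
  let η : ∀ i j : U, (Γ((U : Scheme.{u}), Vs i ⊓ Vs j))ˣ := fun i j =>
    ((hr i j).map (U.ι.app (N i ⊓ N j)).hom).unit
  have hVs : iSup Vs = ⊤ := eq_top_iff.2 fun z _ => Opens.mem_iSup.2 ⟨⟨U.ι z, z.2⟩, hyN _⟩
  have hη : ∀ (x : (U : Scheme.{u})) (i j k : {i : U // x ∈ Vs i}),
      CocycleGlue.eta Vs η i k = CocycleGlue.eta Vs η i j * CocycleGlue.eta Vs η j k := fun x i j k => by
    have e : ∀ (a b : {i : U // x ∈ Vs i}), CocycleGlue.eta Vs η a b =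
        (U.ι.stalkMap x).hom (X.presheaf.germ (N a.1 ⊓ N b.1) (U.ι x) ⟨a.2, b.2⟩ (r a.1 b.1)) := fun a b => by
      show (U : Scheme.{u}).presheaf.germ _ x _ ((U.ι.app (N a.1 ⊓ N b.1)).hom (r a.1 b.1)) = _
      exact (Scheme.Hom.germ_stalkMap_apply U.ι _ x _ _).symm
    rw [e, e, e, ← map_mul]
    congr 1
    refine sp_injective hW (y := U.ι x) trivial ?_
    rw [map_mul, sp_germ, sp_germ, sp_germ, hrval, hrval, hrval,
      div_mul_div_cancel₀ ((map_ne_zero_iff φ (IsFractionRing.injective _ _)).2 (hgenP j.1 _ j.2).2.1)]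
  obtain ⟨L, σ, hL, hσ, hσr⟩ := CocycleGlue.exists_invertible Vs η hη hVs
  obtain ⟨e⟩ := hpic L hL
  let s₀ : Γ(L, ⊤) := unitVal e.inv ⊤
  have hs₀ : IsGen L ⊤ s₀ := fun Q hQ => by
    have hb := ConcreteCategory.bijective_of_isIso (e.inv.app Q)
    have hfun : (fun t : Γ((U : Scheme.{u}), Q) => t • resM L hQ s₀) = fun t => e.inv.app Q t := funext fun t => by
      rw [app_unit, ← resM_unitVal e.inv hQ]
    exact hfun ▸ hb
  let c : ∀ i, Γ((U : Scheme.{u}), Vs i) := fun i => (hσ i).coef le_rfl (resM L le_top s₀)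
  have hc : ∀ i, c i • σ i = resM L le_top s₀ := fun i => by
    have := (hσ i).coef_spec le_rfl (resM L le_top s₀)
    rwa [resM_self] at this
  have hcu : ∀ i, IsUnit (c i) := fun i => (hσ i).isUnit_coef (hs₀.restrict le_top)
  choose C hC using fun i => (bijective_ι_app_of_le (hNU i)).2 (c i)
  have hCu : ∀ i, IsUnit (C i) := fun i => by
    obtain ⟨d, hd⟩ := (bijective_ι_app_of_le (hNU i)).2 (↑(hcu i).unit⁻¹ : Γ((U : Scheme.{u}), Vs i))
    refine IsUnit.of_mul_eq_one d ((bijective_ι_app_of_le (hNU i)).1 ?_)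
    rw [map_mul, hC, hd, map_one, IsUnit.mul_val_inv]
  have hcmp : ∀ i j, rs (inf_le_left : N i ⊓ N j ≤ N i) (C i) * r i j = rs inf_le_right (C j) := fun i j => by
    refine (bijective_ι_app_of_le (inf_le_left.trans (hNU i))).1 ?_
    have hi := congrArg (resM L (inf_le_left : Vs i ⊓ Vs j ≤ Vs i)) (hc i)
    have hj := congrArg (resM L (inf_le_right : Vs i ⊓ Vs j ≤ Vs j)) (hc j)
    rw [resM_smul, resM_resM, hσr, ← mul_smul] at hi
    rw [resM_smul, resM_resM] at hj
    have h2 := (hσ j (Vs i ⊓ Vs j) inf_le_right).1 (hi.trans hj.symm)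
    have hn : ∀ {A B : X.Opens} (hAB : A ≤ B) (z : Γ(X, B)), (U.ι.app A).hom (rs hAB z) =
        res (U.ι.preimage_mono hAB) ((U.ι.app B).hom z) := fun {A B} hAB z =>
      ConcreteCategory.congr_hom (U.ι.naturality (homOfLE hAB).op) z
    rw [map_mul, hn, hn, hC, hC]
    exact h2
  -- the global generator
  obtain ⟨y₀, hy₀, hPy₀⟩ := hPU
  let i₀ : U := ⟨y₀, hy₀⟩
  have hgen₀ : gen hW ∈ N i₀ := gen_mem_of_mem hW trivial (hyN i₀)
  let w : K := val hW (N i₀) hgen₀ (C i₀) * φ (π i₀)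
  have hw : ∀ i hη, val hW (N i) hη (C i * rs le_top (π i)) = w := fun i hη => by
    have hη' : gen hW ∈ N i₀ ⊓ N i := ⟨hgen₀, hη⟩
    have h3 := congrArg (val hW _ hη') (hcmp i₀ i)
    rw [map_mul, val_rs, val_rs, hrval i₀ i hη'] at h3
    rw [map_mul, val_rs, val_self, ← h3, mul_assoc,
      div_mul_cancel₀ _ ((map_ne_zero_iff φ (IsFractionRing.injective _ _)).2 (hgenP i _ (hyN i)).2.1)]
  obtain ⟨t, ht⟩ := exists_section_glue hW le_top N (fun z hz => Opens.mem_iSup.2 ⟨⟨z, hz⟩, hyN _⟩)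
    (V := U) hNU (fun i => C i * rs le_top (π i)) hw
  obtain ⟨p, hp⟩ := (hU.bij (top_inf_eq U).symm le_top).2 t
  have hpw : φ p = w := by
    rw [← val_self hW p, ← ht (gen_mem_of_mem hW trivial hy₀), ← hp]
    exact (val_rs hW le_top _ p).symm
  have hunit : ∀ i : U, UnitAt (pt hW (show i.1 ∈ (⊤ : X.Opens) from trivial))
      (val hW (N i) (gen_mem_of_mem hW trivial (hyN i)) (C i)) := fun i =>
    unitAt_val hW trivial (hyN i) ((hCu i).map _)
  refine ⟨p, ?_⟩
  apply le_antisymm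
  · intro x hx
    rw [Submodule.mem_span_singleton]
    -- `x / p` is regular on `U`
    have hD : ∀ y : U, ∃ b : Γ(X, ⊤), b ∉ (pt hW (show y.1 ∈ (⊤ : X.Opens) from trivial)).asIdeal ∧
        ∃ a, b * x = a * p := fun y => by
      obtain ⟨a, b, ha, hb, e⟩ := hunit y
      obtain ⟨s, hs, d, hd⟩ := (hgenP y y.1 (hyN y)).2.2 x hx
      refine ⟨s * a, fun h => ((pt hW _).isPrime.mem_or_mem h).elim hs ha, d * b, IsFractionRing.injective Γ(X, ⊤) K ?_⟩
      have hww := hw y (gen_mem_of_mem hW trivial (hyN y))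
      rw [map_mul, val_rs, val_self] at hww
      show φ (s * a * x) = φ (d * b * p)
      rw [show s * a * x = a * (s * x) by ring, hd, map_mul, map_mul, map_mul, map_mul, hpw, ← hww, ← e]
      ring
    choose b hb a ha using hD
    have hp0 : φ p ≠ 0 := by
      rw [hpw]
      exact mul_ne_zero (hunit i₀).ne_zero ((map_ne_zero_iff φ (IsFractionRing.injective _ _)).2 (hgenP i₀ _ (hyN i₀)).2.1)
    let M : U → X.Opens := fun y => U ⊓ X.basicOpen (b y)
    have hbu : ∀ y, IsUnit (rs (le_top : M y ≤ ⊤) (b y)) := fun y => by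
      have h1 := (X.toRingedSpace.isUnit_res_basicOpen (b y)).map (rs (inf_le_right : M y ≤ X.basicOpen (b y)))
      have e : rs (inf_le_right : M y ≤ X.basicOpen (b y)) (rs (X.basicOpen_le (b y)) (b y)) = rs le_top (b y) :=
        PicLib.res_res _ _ _
      exact e ▸ h1
    obtain ⟨t', ht'⟩ := exists_section_glue hW le_top M
      (fun z hz => Opens.mem_iSup.2 ⟨⟨z, hz⟩, hz, (notMem_pt hW _ _).1 (hb ⟨z, hz⟩)⟩) (V := U) (fun _ => inf_le_left)
      (fun y => rs (le_top : M y ≤ ⊤) (a y) * ((hbu y).unit⁻¹ : Γ(X, M y)ˣ).val) (w := φ x / φ p) (fun y hη => by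
        have h1 : val hW (M y) hη (rs (le_top : M y ≤ ⊤) (a y) * ((hbu y).unit⁻¹ : Γ(X, M y)ˣ).val) * φ (b y) = φ (a y) := by
          rw [← val_self hW (b y), ← val_rs hW (le_top : M y ≤ ⊤) hη (b y), ← map_mul, mul_assoc,
            IsUnit.val_inv_mul, mul_one, val_rs, val_self]
        have hb0 : φ (b y) ≠ 0 := (map_ne_zero_iff φ (IsFractionRing.injective _ _)).2 fun h => hb y (h ▸ Ideal.zero_mem _)
        rw [eq_div_iff hp0]
        apply mul_right_cancel₀ hb0
        rw [mul_right_comm, h1, ← map_mul, ← map_mul, ← ha y, mul_comm x])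
    obtain ⟨q, hq⟩ := (hU.bij (top_inf_eq U).symm le_top).2 t'
    refine ⟨q, IsFractionRing.injective Γ(X, ⊤) K ?_⟩
    rw [smul_eq_mul, map_mul, ← val_self hW q, ← val_rs hW (le_top : U ≤ ⊤) (gen_mem_of_mem hW trivial hy₀) q,
      show rs (le_top : U ≤ ⊤) q = t' from hq, ht', div_mul_cancel₀ _ hp0]
  · rw [Submodule.span_singleton_le_iff_mem]
    obtain ⟨a, b, ha, hb, e⟩ := hunit i₀
    have h4 : p * b = a * π i₀ := IsFractionRing.injective Γ(X, ⊤) K (by
      show φ (p * b) = φ (a * π i₀)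
      rw [map_mul, map_mul, hpw, ← e]
      ring)
    have hb' : b ∉ P := hPy₀ ▸ hb
    exact ((inferInstance : P.IsPrime).mem_or_mem (h4 ▸ P.mul_mem_left a (hgenP i₀ _ (hyN i₀)).1)).resolve_right hb'

end Groth.Agent.ParaF29
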