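import Groth.Agent.ParaF29.Basic

/-! # Parafactorial pairs -/

set_option autoImplicit false
set_option backward.isDefEq.respectTransparency.types false

universe u

open CategoryTheory CategoryTheory.Limits AlgebraicGeometry Opposite TopologicalSpace
open Groth.Agent.PicLib Groth.Agent.Coherent

namespace Groth.Agent.ParaF29

variable {X Y : Scheme.{u}}

/-- invertible modules on the source are trivial near every point of the target -/
def LocTriv (j : Y ⟶ X) : Prop :=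
  ∀ L₀ : Y.Modules, PicF.IsInvertible L₀ → ∀ z : X, ∃ N : X.Opens, z ∈ N ∧ ∃ s : Γ(L₀, j ⁻¹ᵁ N), IsGen L₀ (j ⁻¹ᵁ N) s

theorem bijective_app {j : Y ⟶ X} [IsOpenImmersion j] (h : HB j.opensRange) (V : X.Opens) :
    Function.Bijective (j.app V) := by
  have hb : Function.Bijective (res (j.image_preimage_le V)) :=
    h.bij ((j.image_preimage_eq_opensRange_inf V).trans (inf_comm _ _)) _
  have e : ⇑(j.app V).hom = (j.appIso (j ⁻¹ᵁ V)).hom.hom ∘ res (j.image_preimage_le V) := by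
    funext x
    have h2 : j.app V = X.presheaf.map (homOfLE (j.image_preimage_le V)).op ≫ (j.appIso (j ⁻¹ᵁ V)).hom := by
      rw [← Iso.comp_inv_eq]; exact j.app_appIso_inv V
    conv_lhs => rw [h2]
    rfl
  show Function.Bijective ⇑(j.app V).hom
  rw [e]
  exact (ConcreteCategory.bijective_of_isIso (j.appIso (j ⁻¹ᵁ V)).hom).comp hb

theorem invRestrictEquiv_of_locTriv (j : Y ⟶ X) [IsOpenImmersion j] (h : HB j.opensRange) (hl : LocTriv j) :
    ParaF.InvRestrictEquiv j :=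
  invRestrictEquiv_of j h fun L₀ hL₀ => isInvertible_of_gens fun z => by
    obtain ⟨N, hz, s, hs⟩ := hl L₀ hL₀ z
    refine ⟨N, hz, s, fun N' hN' => ?_⟩
    have hb := hs (j ⁻¹ᵁ N') (fun w hw => hN' hw)
    exact hb.comp (bijective_app h N')

theorem locTriv_of_invRestrictEquiv (j : Y ⟶ X) [IsOpenImmersion j] (h : HB j.opensRange)
    (hj : ParaF.InvRestrictEquiv j) : LocTriv j := fun L₀ hL₀ z => by
  obtain ⟨N, hz, s, hs⟩ := exists_isGen (pushforward_invertible j h hj hL₀) z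
  refine ⟨N, hz, s, fun Q hQ => ?_⟩
  have hle : j ''ᵁ Q ≤ N := (j.image_mono hQ).trans (j.image_preimage_le N)
  have hb := hs (j ''ᵁ Q) hle
  have hb' : Function.Bijective ((fun r : Γ(Y, j ⁻¹ᵁ (j ''ᵁ Q)) =>
      r • resM L₀ (j.preimage_mono hle) s) ∘ j.app (j ''ᵁ Q)) := hb
  have key : ∀ {Q' : Y.Opens} (_ : Q' = Q) (h1 : Q' ≤ j ⁻¹ᵁ N),
      Function.Bijective (fun r : Γ(Y, Q') => r • resM L₀ h1 s) →
      Function.Bijective (fun r : Γ(Y, Q) => r • resM L₀ hQ s) := by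
    intro Q' e h1 hh; subst e; exact hh
  exact key (j.preimage_image_eq Q) _ ((Function.Bijective.of_comp_iff _ (bijective_app h (j ''ᵁ Q))).mp hb')

theorem isGen_of_restrict (q : Y ⟶ X) [IsOpenImmersion q] {L : X.Modules} {Q : Y.Opens} {t : Γ(L.restrict q, Q)}
    (ht : IsGen (L.restrict q) Q t) : IsGen L (q ''ᵁ Q) ((L.restrictAppIso q Q).hom t) := by
  intro M hM
  obtain ⟨R, rfl⟩ : ∃ R : Y.Opens, q ''ᵁ R = M := ⟨q ⁻¹ᵁ M, by
    rw [q.image_preimage_eq_opensRange_inf, inf_eq_right]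
    exact hM.trans (q.image_le_opensRange Q)⟩
  have hR : R ≤ Q := (q.image_le_image_iff _ _).mp hM
  have hb := ht R hR
  have hb2 := ConcreteCategory.bijective_of_isIso (L.restrictAppIso q R).hom
  have hb3 := ConcreteCategory.bijective_of_isIso (q.appIso R).hom
  convert hb2.comp (hb.comp hb3) using 1
  funext r
  refine Eq.trans ?_ (Scheme.Modules.smul_restrictAppIso_hom_apply q L R ((q.appIso R).hom r) _).symm
  rw [← ConcreteCategory.comp_apply (q.appIso R).hom, Iso.hom_inv_id]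
  rfl

/-- local triviality can be checked on a cover -/
theorem locTriv_of_cover (j : Y ⟶ X)
    (h : ∀ z : X, ∃ (V₀ Z₀ : Scheme.{u}) (e : V₀ ⟶ X) (_ : IsOpenImmersion e) (q : Z₀ ⟶ Y) (_ : IsOpenImmersion q)
      (j₀ : Z₀ ⟶ V₀), j₀ ≫ e = q ≫ j ∧ z ∈ e.opensRange ∧ j ⁻¹ᵁ e.opensRange ≤ q.opensRange ∧ LocTriv j₀) :
    LocTriv j := fun L₀ hL₀ z => by
  obtain ⟨V₀, Z₀, e, _, q, _, j₀, hsq, ⟨z₀, hz₀⟩, hrange, hl⟩ := h z
  obtain ⟨N₀, hz, t, ht⟩ := hl (L₀.restrict q) (isInvertible_restrict q hL₀) z₀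
  have heq : q ''ᵁ (j₀ ⁻¹ᵁ N₀) = j ⁻¹ᵁ (e ''ᵁ N₀) := by
    have h1 : j₀ ⁻¹ᵁ N₀ = q ⁻¹ᵁ (j ⁻¹ᵁ (e ''ᵁ N₀)) := by
      rw [← Scheme.Hom.comp_preimage, ← hsq, Scheme.Hom.comp_preimage, e.preimage_image_eq]
    rw [h1, q.image_preimage_eq_opensRange_inf, inf_eq_right]
    exact (j.preimage_mono (e.image_le_opensRange N₀)).trans hrange
  refine ⟨e ''ᵁ N₀, ⟨z₀, hz, hz₀⟩, resM L₀ heq.ge _, (isGen_of_restrict q ht).restrict heq.ge⟩

theorem isInvertible_structureModule : PicF.IsInvertible (Coh.structureModule X) :=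
  isInvertible_of_gens fun _ => ⟨⊤, trivial, (1 : Γ(X, ⊤)), fun V h => by
    have e : (fun r : Γ(X, V) => r • resM (Coh.structureModule X) h (1 : Γ(X, ⊤))) = fun r => r := funext fun r => by
      show r * res h 1 = r
      rw [map_one, mul_one]
    rw [e]; exact Function.bijective_id⟩

theorem bijective_res_of_map (j : Y ⟶ X) [IsOpenImmersion j]
    (h : Function.Bijective (fun φ : Coh.structureModule X ⟶ Coh.structureModule X =>
      (Scheme.Modules.restrictFunctor j).map φ)) :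
    Function.Bijective (res (le_top : j ''ᵁ ⊤ ≤ ⊤)) := by
  let M := (Coh.structureModule X).restrict j
  let s₀ : Γ(M, ⊤) := ((Coh.structureModule X).restrictAppIso j ⊤).inv (1 : Γ(X, j ''ᵁ ⊤))
  have hs₀ : IsGen M ⊤ s₀ := fun W hW => by
    have hb3 := ConcreteCategory.bijective_of_isIso (j.appIso W).inv
    have hb2 := ConcreteCategory.bijective_of_isIso ((Coh.structureModule X).restrictAppIso j W).hom
    refine (Function.Bijective.of_comp_iff' hb2 _).1 ?_
    refine (congrArg Function.Bijective (funext fun r => ?_)).mpr hb3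
    refine (Scheme.Modules.smul_restrictAppIso_hom_apply j _ W r _).trans ?_
    show (j.appIso W).inv r * res (j.image_mono hW) 1 = _
    rw [map_one, mul_one]
  constructor
  · intro a b hab
    let φ : Γ(X, ⊤) → (Coh.structureModule X ⟶ Coh.structureModule X) := fun a => unitDesc (Coh.structureModule X) a
    have he : φ a = φ b := by
      refine h.1 (hom_ext_gen (fun _ : PUnit.{u + 1} => ⊤) (iSup_const) (fun _ => s₀) (fun _ => hs₀) _ _ fun _ => ?_)
      show (φ a).app (j ''ᵁ ⊤) (1 : Γ(X, j ''ᵁ ⊤)) = (φ b).app (j ''ᵁ ⊤) (1 : Γ(X, j ''ᵁ ⊤))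
      have ea : ∀ a, (φ a).app (j ''ᵁ ⊤) (1 : Γ(X, j ''ᵁ ⊤)) = res (le_top : j ''ᵁ ⊤ ≤ ⊤) a := fun a => by
        refine (app_unit (φ a) 1).trans ?_
        rw [one_smul, ← resM_unitVal (φ a) (le_top : j ''ᵁ ⊤ ≤ ⊤), unitVal_unitDesc, resM_resM]
        rfl
      rw [ea, ea, hab]
    have := congrArg (fun f => unitVal f ⊤) he
    simp only [φ, unitVal_unitDesc, resM_self] at this; exact this
  · intro c
    obtain ⟨ψ, hψ⟩ := exists_hom_of_gen (M := M) (fun _ : PUnit.{u + 1} => ⊤) (iSup_const) (fun _ => s₀) (fun _ => hs₀)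
      (fun _ => ((Coh.structureModule X).restrictAppIso j ⊤).inv c) fun i i' W hi hj c' hc => by
        have h1 : c' = 1 := ((hs₀ W hi).1 (by
          show c' • resM M hi s₀ = (1 : Γ(Y, W)) • resM M hi s₀
          rw [one_smul]; exact hc.symm))
        rw [h1, one_smul]
    obtain ⟨φ, hφ⟩ := h.2 ψ
    refine ⟨unitVal φ ⊤, ?_⟩
    have h2 := hψ PUnit.unit
    rw [← hφ] at h2
    have h3 : φ.app (j ''ᵁ ⊤) (1 : Γ(X, j ''ᵁ ⊤)) = c := h2
    rw [← h3, app_unit, one_smul]
    exact resM_unitVal φ _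

/-- the intrinsic form of parafactoriality -/
def LT (U : X.Opens) : Prop := ∀ V : X.Opens, LocTriv (X.homOfLE (inf_le_left : V ⊓ U ≤ V))

theorem hb_range {U V : X.Opens} (h : HB U) : HB (X.homOfLE (inf_le_left : V ⊓ U ≤ V)).opensRange := fun W => by
  have hb := h.bij (W := V.ι ''ᵁ (W ⊓ (X.homOfLE (inf_le_left : V ⊓ U ≤ V)).opensRange)) (V := V.ι ''ᵁ W) (by
    rw [Scheme.opensRange_homOfLE]
    ext z
    constructor
    · rintro ⟨w, ⟨hw, -, hwU⟩, rfl⟩
      exact ⟨⟨w, hw, rfl⟩, hwU⟩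
    · rintro ⟨⟨w, hw, rfl⟩, hwU⟩
      exact ⟨w, ⟨hw, w.2, hwU⟩, rfl⟩) (V.ι.image_mono inf_le_left)
  exact hb

theorem isParafactorialPair_iff (Y : Closeds X) : ParaF.IsParafactorialPair X Y ↔ HB Y.compl ∧ LT Y.compl := by
  constructor
  · intro h
    have hb : HB Y.compl := fun V => by
      have h1 := bijective_res_of_map _ ((h V).1 _ _ isInvertible_structureModule isInvertible_structureModule)
      have key : ∀ {A B A' B' : X.Opens} (_ : A = A') (_ : B = B') (h1 : A ≤ B) (h2 : A' ≤ B'),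
          Function.Bijective (res h1) → Function.Bijective (res h2) := by
        intro A B A' B' e e' h1 h2 hh; subst e; subst e'; exact hh
      refine key ?_ (Scheme.Opens.ι_image_top V) (V.ι.image_mono le_top) _ h1
      rw [Scheme.Hom.image_top_eq_opensRange, Scheme.opensRange_homOfLE, Scheme.Hom.image_preimage_eq_opensRange_inf,
        Scheme.Opens.opensRange_ι, ← inf_assoc, inf_idem]
    exact ⟨hb, fun V => locTriv_of_invRestrictEquiv _ (hb_range hb) (h V)⟩
  · rintro ⟨hb, hl⟩ V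
    exact invRestrictEquiv_of_locTriv _ (hb_range hb) (hl V)

end Groth.Agent.ParaF29
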