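import Groth.Agent.ParaF29.Pair

/-! # Operations on parafactorial pairs -/

set_option autoImplicit false
set_option backward.isDefEq.respectTransparency.types false

universe u

open CategoryTheory CategoryTheory.Limits AlgebraicGeometry Opposite TopologicalSpace
open Groth.Agent.PicLib Groth.Agent.Coherent

namespace Groth.Agent.ParaF29

variable {X : Scheme.{u}}

theorem opensRange_homOfLE_inf {U V : X.Opens} :
    (X.homOfLE (inf_le_left : V ⊓ U ≤ V)).opensRange = V.ι ⁻¹ᵁ U := by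
  rw [Scheme.opensRange_homOfLE]
  ext z
  exact ⟨fun h => h.2, fun h => ⟨z.2, h⟩⟩

/-- generators are detected on a Hartogs open -/
theorem isGen_of_hb {U : X.Opens} (h : HB U) {L : X.Modules} (hL : PicF.IsInvertible L) {N : X.Opens}
    {s : Γ(L, N)} (hs : IsGen L (N ⊓ U) (resM L inf_le_left s)) : IsGen L N s := fun Q hQ => by
  have hb := hs (Q ⊓ U) (inf_le_inf_right U hQ)
  have e : (resM L (inf_le_left : Q ⊓ U ≤ Q)) ∘ (fun r : Γ(X, Q) => r • resM L hQ s) =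
      (fun r : Γ(X, Q ⊓ U) => r • resM L (inf_le_inf_right U hQ) (resM L inf_le_left s)) ∘
        (X.presheaf.map (homOfLE (inf_le_left : Q ⊓ U ≤ Q)).op) := funext fun r => by
    simp only [Function.comp_apply, resM_smul, resM_resM]
  exact (Function.Bijective.of_comp_iff' (bijective_resM h hL Q) _).mp (e ▸ hb.comp (h Q))

/-- local triviality over an open immersion from local triviality near each of its points -/
theorem locTriv_of_ranges {V Z : Scheme.{u}} (i : V ⟶ X) [IsOpenImmersion i] (j : Z ⟶ V) [IsOpenImmersion j]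
    {U : X.Opens} (hj : j.opensRange = i ⁻¹ᵁ U)
    (hcov : ∀ z : V, ∃ (V₀ Z₀ : Scheme.{u}) (i₀ : V₀ ⟶ X) (_ : IsOpenImmersion i₀) (j₀ : Z₀ ⟶ V₀)
      (_ : IsOpenImmersion j₀), j₀.opensRange = i₀ ⁻¹ᵁ U ∧ i z ∈ i₀.opensRange ∧ i₀.opensRange ≤ i.opensRange ∧
        LocTriv j₀) : LocTriv j := by
  refine locTriv_of_cover j fun z => ?_
  obtain ⟨V₀, Z₀, i₀, _, j₀, _, hj₀, ⟨z₀, hz₀⟩, hle, hl⟩ := hcov z
  let e := IsOpenImmersion.lift i i₀ hle
  have he : e ≫ i = i₀ := IsOpenImmersion.lift_fac _ _ _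
  let q := IsOpenImmersion.lift (j ≫ i) (j₀ ≫ i₀) (by
    rintro _ ⟨w, rfl⟩
    have hU : j₀ w ∈ i₀ ⁻¹ᵁ U := hj₀ ▸ ⟨w, rfl⟩
    obtain ⟨v, hv⟩ := hle ⟨j₀ w, rfl⟩
    have hv' : v ∈ i ⁻¹ᵁ U := by
      show i v ∈ U
      rw [hv]; exact hU
    rw [← hj] at hv'
    obtain ⟨y, hy⟩ := hv'
    exact ⟨y, by rw [Scheme.Hom.comp_apply, hy, hv, Scheme.Hom.comp_apply]⟩)
  have hq : q ≫ j ≫ i = j₀ ≫ i₀ := IsOpenImmersion.lift_fac _ _ _
  haveI : IsOpenImmersion e := by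
    haveI : IsOpenImmersion (e ≫ i) := by rw [he]; infer_instance
    exact IsOpenImmersion.of_comp e i
  haveI : IsOpenImmersion q := by
    haveI : IsOpenImmersion (q ≫ (j ≫ i)) := by rw [hq]; infer_instance
    exact IsOpenImmersion.of_comp q (j ≫ i)
  refine ⟨V₀, Z₀, e, ‹_›, q, ‹_›, j₀, ?_, ⟨z₀, i.isOpenEmbedding.injective ?_⟩, ?_, hl⟩
  · rw [← cancel_mono i, Category.assoc, he, Category.assoc, hq]
  · rw [← Scheme.Hom.comp_apply, he]; exact hz₀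
  · rintro y ⟨v₀, hv₀⟩
    have hyU : i₀ v₀ ∈ U := by
      rw [← he, Scheme.Hom.comp_apply, hv₀]
      exact (show j y ∈ i ⁻¹ᵁ U from hj ▸ ⟨y, rfl⟩)
    obtain ⟨w, hw⟩ : v₀ ∈ j₀.opensRange := by rw [hj₀]; exact hyU
    refine ⟨w, (j ≫ i).isOpenEmbedding.injective ?_⟩
    rw [← Scheme.Hom.comp_apply, hq, Scheme.Hom.comp_apply, hw, ← he, Scheme.Hom.comp_apply, hv₀, Scheme.Hom.comp_apply]

theorem locTriv_of_LT {U : X.Opens} (h : LT U) {V Z : Scheme.{u}} (i : V ⟶ X) [IsOpenImmersion i] (j : Z ⟶ V)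
    [IsOpenImmersion j] (hj : j.opensRange = i ⁻¹ᵁ U) : LocTriv j :=
  locTriv_of_ranges i j hj fun z => ⟨_, _, i.opensRange.ι, inferInstance, X.homOfLE (inf_le_left : i.opensRange ⊓ U ≤ _),
    inferInstance, opensRange_homOfLE_inf, by rw [Scheme.Opens.opensRange_ι]; exact ⟨z, rfl⟩,
    by rw [Scheme.Opens.opensRange_ι], h _⟩

theorem hb_restrict {U : X.Opens} (h : HB U) (W : X.Opens) : HB (W.ι ⁻¹ᵁ U) := fun Q =>
  h.bij (V := W.ι ''ᵁ Q) (W := W.ι ''ᵁ (Q ⊓ W.ι ⁻¹ᵁ U)) (by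
    ext z
    constructor
    · rintro ⟨w, ⟨hw, hwU⟩, rfl⟩; exact ⟨⟨w, hw, rfl⟩, hwU⟩
    · rintro ⟨⟨w, hw, rfl⟩, hwU⟩; exact ⟨w, ⟨hw, hwU⟩, rfl⟩) (W.ι.image_mono inf_le_left)

theorem lt_restrict {U : X.Opens} (h : LT U) (W : X.Opens) : LT (W.ι ⁻¹ᵁ U) := fun V => by
  refine locTriv_of_LT h (V.ι ≫ W.ι) _ ?_
  rw [opensRange_homOfLE_inf, Scheme.Hom.comp_preimage]

theorem lt_of_cover {U : X.Opens} {ι : Type u} (W : ι → X.Opens) (hW : ⨆ i, W i = ⊤)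
    (h : ∀ i, LT ((W i).ι ⁻¹ᵁ U)) : LT U := fun V => by
  refine locTriv_of_ranges V.ι _ opensRange_homOfLE_inf fun z => ?_
  obtain ⟨i, hi⟩ := Opens.mem_iSup.mp (show V.ι z ∈ ⨆ i, W i by rw [hW]; trivial)
  let V₀ : (W i : Scheme.{u}).Opens := (W i).ι ⁻¹ᵁ V
  refine ⟨_, _, V₀.ι ≫ (W i).ι, inferInstance, (W i : Scheme.{u}).homOfLE (inf_le_left : V₀ ⊓ (W i).ι ⁻¹ᵁ U ≤ V₀),
    inferInstance, by rw [opensRange_homOfLE_inf, Scheme.Hom.comp_preimage], ?_, ?_, h i V₀⟩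
  · exact ⟨⟨⟨V.ι z, hi⟩, z.2⟩, rfl⟩
  · rw [Scheme.Opens.opensRange_ι]
    rintro _ ⟨w, rfl⟩
    exact w.2

theorem hb_of_cover {U : X.Opens} {ι : Type u} (W : ι → X.Opens) (hW : ⨆ i, W i = ⊤)
    (h : ∀ i, HB ((W i).ι ⁻¹ᵁ U)) : HB U := by
  have hloc : ∀ (i : ι) (Q : X.Opens), Q ≤ W i → Function.Bijective (res (inf_le_left : Q ⊓ U ≤ Q)) := fun i Q hQ => by
    have key : ∀ {A B A' B' : X.Opens} (_ : A = A') (_ : B = B') (h1 : A ≤ B) (h2 : A' ≤ B'),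
        Function.Bijective (res h1) → Function.Bijective (res h2) := by
      intro A B A' B' e e' h1 h2 hh; subst e; subst e'; exact hh
    have hQ' : (W i).ι ''ᵁ ((W i).ι ⁻¹ᵁ Q) = Q := by
      rw [Scheme.Hom.image_preimage_eq_opensRange_inf, Scheme.Opens.opensRange_ι, inf_eq_right]; exact hQ
    refine key ?_ hQ' ((W i).ι.image_mono inf_le_left) _ (h i ((W i).ι ⁻¹ᵁ Q))
    rw [← Scheme.Hom.preimage_inf, Scheme.Hom.image_preimage_eq_opensRange_inf, Scheme.Opens.opensRange_ι, inf_eq_right]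
    exact inf_le_left.trans hQ
  intro V
  have hcV : V ≤ ⨆ i, V ⊓ W i := by rw [← inf_iSup_eq, hW, inf_top_eq]
  have hcVU : V ⊓ U ≤ ⨆ i, (V ⊓ W i) ⊓ U := by rw [← iSup_inf_eq]; exact inf_le_inf_right U hcV
  refine ⟨fun a b hab => ?_, fun x => ?_⟩
  · refine TopCat.Sheaf.eq_of_locally_eq' X.sheaf (fun i => V ⊓ W i) V (fun i => homOfLE inf_le_left) hcV a b fun i => ?_
    refine (hloc i (V ⊓ W i) inf_le_right).1 ?_
    have h2 := congrArg (res (inf_le_inf_right U (inf_le_left : V ⊓ W i ≤ V))) hab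
    change res _ (res inf_le_left a) = res _ (res inf_le_left b) at h2
    show res inf_le_left (res inf_le_left a) = res inf_le_left (res inf_le_left b)
    rw [res_res, res_res] at h2 ⊢
    exact h2
  · choose t ht using fun i => (hloc i (V ⊓ W i) inf_le_right).2 (res (inf_le_inf_right U inf_le_left) x)
    obtain ⟨a, ha, -⟩ := TopCat.Sheaf.existsUnique_gluing' X.sheaf (fun i => V ⊓ W i) V
      (fun i => homOfLE inf_le_left) hcV t (fun i k => by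
        show res inf_le_left (t i) = res inf_le_right (t k)
        refine (hloc i _ (inf_le_left.trans inf_le_right)).1 ?_
        rw [res_res, res_res, ← res_res inf_le_left
            (inf_le_inf_right U (inf_le_left : (V ⊓ W i) ⊓ (V ⊓ W k) ≤ V ⊓ W i)) (t i),
          ← res_res inf_le_left (inf_le_inf_right U (inf_le_right : (V ⊓ W i) ⊓ (V ⊓ W k) ≤ V ⊓ W k)) (t k),
          ht, ht, res_res, res_res])
    refine ⟨a, TopCat.Sheaf.eq_of_locally_eq' X.sheaf (fun i => (V ⊓ W i) ⊓ U) (V ⊓ U)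
      (fun i => homOfLE (inf_le_inf_right U inf_le_left)) hcVU _ _ fun i => ?_⟩
    show res _ (res (inf_le_left : V ⊓ U ≤ V) a) = res _ x
    rw [res_res, ← ht i, ← show res (inf_le_left : V ⊓ W i ≤ V) a = t i from ha i, res_res]

theorem hb_mono {U U' : X.Opens} (hle : U ≤ U') (h : HB U) : HB U' := fun V => by
  have h2 : Function.Bijective (res (inf_le_inf_left V hle)) := h.bij (by rw [inf_assoc, inf_eq_right.mpr hle]) _
  have e : res (inf_le_inf_left V hle) ∘ res (inf_le_left : V ⊓ U' ≤ V) = res (inf_le_left : V ⊓ U ≤ V) :=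
    funext fun r => res_res _ _ r
  exact (Function.Bijective.of_comp_iff' h2 _).mp (e ▸ h V)

theorem lt_mono {U U' : X.Opens} (hle : U ≤ U') (hb : HB U) (h : LT U) : LT U' := fun V L₀ hL₀ z => by
  let Z := V ⊓ U'
  let q := X.homOfLE (inf_le_inf_left V hle : V ⊓ U ≤ Z)
  let j := X.homOfLE (inf_le_left : Z ≤ V)
  obtain ⟨N, hz, t, ht⟩ := h V (L₀.restrict q) (isInvertible_restrict q hL₀) z
  have hgen := isGen_of_restrict q ht
  have hbZ : HB (Z.ι ⁻¹ᵁ U) := hb_restrict hb Z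
  have heq : q ''ᵁ ((X.homOfLE (inf_le_left : V ⊓ U ≤ V)) ⁻¹ᵁ N) = j ⁻¹ᵁ N ⊓ Z.ι ⁻¹ᵁ U := by
    rw [show X.homOfLE (inf_le_left : V ⊓ U ≤ V) = q ≫ j from (X.homOfLE_homOfLE _ _).symm, Scheme.Hom.comp_preimage,
      Scheme.Hom.image_preimage_eq_opensRange_inf, Scheme.opensRange_homOfLE]
    ext w
    exact ⟨fun hw => ⟨hw.2, hw.1.2⟩, fun hw => ⟨⟨w.2.1, hw.2⟩, hw.1⟩⟩
  obtain ⟨s, hs⟩ := (bijective_resM hbZ hL₀ (j ⁻¹ᵁ N)).2 (resM L₀ heq.ge ((L₀.restrictAppIso q _).hom t))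
  exact ⟨N, hz, s, isGen_of_hb hbZ hL₀ (hs ▸ hgen.restrict heq.ge)⟩

end Groth.Agent.ParaF29
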